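import Groth.Agent.An.H862.AffTop

/-!
# Complex points of an affine scheme of finite type: points, maps, continuity by global functions
-/

set_option autoImplicit false
open CategoryTheory AlgebraicGeometry Topology TopologicalSpace Opposite Filter
open Groth.Agent.An.H863.PtsBasic Groth.Agent.An.H863.PtsCont

noncomputable section

namespace Groth.Agent.An.H14.AffPts

variable {X : Scheme.{0}} [X.Over An.SC]

/-- Evaluation of global functions, as a ring homomorphism. -/
def evTopHom (x : An.Pts X) : Γ(X, ⊤) →+* ℂ := evHom x ⊤ (Opens.mem_top _)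

@[simp] lemma evTopHom_apply (x : An.Pts X) (f : Γ(X, ⊤)) : evTopHom x f = x.evTop f := rfl

lemma evTopHom_strHom (x : An.Pts X) (c : ℂ) : evTopHom x (An.strHom X c) = c := evTop_strHom x c

/-- A complex point of an affine scheme is determined by the values of the global functions. -/
theorem ext_of_evTop [IsAffine X] {x y : An.Pts X} (h : ∀ f, x.evTop f = y.evTop f) : x = y := by
  apply pt_injective
  have h2 : Groth.Agent.An.H867.Alg.kerPt (evHom x ⊤ (Opens.mem_top _)) =
      Groth.Agent.An.H867.Alg.kerPt (evHom y ⊤ (Opens.mem_top _)) := by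
    congr 1
    ext f
    exact h f
  rw [← Groth.Agent.An.H867.Nhds.fromSpec_kerPt x ⊤ (isAffineOpen_top X) (Opens.mem_top _),
    ← Groth.Agent.An.H867.Nhds.fromSpec_kerPt y ⊤ (isAffineOpen_top X) (Opens.mem_top _), h2]

/-- Every `ℂ`-algebra homomorphism from the global functions to `ℂ` is the evaluation at a point. -/
theorem exists_of_ringHom [IsAffine X] [LocallyOfFiniteType (X ↘ An.SC)] (φ : Γ(X, ⊤) →+* ℂ)
    (hφ : ∀ c, φ (An.strHom X c) = c) : ∃ x : An.Pts X, evTopHom x = φ := by
  obtain ⟨x, hx, h⟩ := Groth.Agent.An.H867.Nhds.exists_pts_of_ringHom (X := X) ⊤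
    (isAffineOpen_top X) φ (by
      intro c
      rw [Groth.Agent.An.H862.AffTop.strU_top]
      exact hφ c)
  exact ⟨x, h⟩

/-- Continuity at a point of a map to the complex points of an affine scheme. -/
theorem continuousAt_of_evTop [IsAffine X] {T : Type*} [TopologicalSpace T] (ψ : T → An.Pts X)
    (t₀ : T) (h : ∀ f, ContinuousAt (fun t => (ψ t).evTop f) t₀) : ContinuousAt ψ t₀ := by
  refine continuousAt_of_affine_all ψ t₀ ⊤ (isAffineOpen_top X)
    (Filter.Eventually.of_forall fun t => Opens.mem_top _) fun f => ?_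
  simpa only [evAt_top] using h f

theorem continuous_of_evTop [IsAffine X] {T : Type*} [TopologicalSpace T] (ψ : T → An.Pts X)
    (h : ∀ f, Continuous (fun t => (ψ t).evTop f)) : Continuous ψ :=
  continuous_iff_continuousAt.2 fun t₀ => continuousAt_of_evTop ψ t₀ fun f => (h f).continuousAt

theorem continuous_evTop' (f : Γ(X, ⊤)) : Continuous (fun x : An.Pts X => x.evTop f) :=
  continuous_evTop f

/-- Evaluation and maps. -/
theorem evTop_map {Y : Scheme.{0}} [Y.Over An.SC] (g : X ⟶ Y) [g.IsOver An.SC] (x : An.Pts X)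
    (f : Γ(Y, ⊤)) : (An.Pts.map g x).evTop f = x.evTop (g.appTop f) :=
  An.Pts.ev_map g x ⊤ (Opens.mem_top _) f

end Groth.Agent.An.H14.AffPts
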