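import Groth.Agent.An.H14.LineSpec
import Groth.Agent.An.H877.Tors
import Groth.Agent.An.H866.AlgCov
import Groth.Agent.An.H879.Covering
import Groth.Prelude.Def_AnEps
import Mathlib.Topology.Maps.Proper.Basic

/-!
# Classes of degree one with finite constant coefficients die on a finite étale covering

`exists_kill_one`: `V` étale over `X` and finite étale over a localization of the affine line: a class
of degree one over `V(ℂ)` with coefficients in a finite group dies on `W(ℂ)` for a surjective étale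
`g : W ⟶ V`.
-/

set_option autoImplicit false
open CategoryTheory AlgebraicGeometry Topology TopologicalSpace Opposite Polynomial

noncomputable section

namespace Groth.Agent.An.H14.KillOne

open Groth.Agent.An.H888 _root_.An

/-- A covering map with finite fibres is closed. -/
theorem isClosedMap_of_isCoveringMap {E B : Type*} [TopologicalSpace E] [TopologicalSpace B]
    {p : E → B} (hp : IsCoveringMap p) (hfin : ∀ b, (p ⁻¹' {b}).Finite) : IsClosedMap p := by
  have h : ∀ b : B, ∃ U : Opens B, b ∈ U ∧ IsClosedMap ((U : Set B).restrictPreimage p) := by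
    intro b
    obtain ⟨hd, U, hbU, hU, hpU, H, hH⟩ := hp b
    refine ⟨⟨U, hU⟩, hbU, ?_⟩
    have : Finite (p ⁻¹' {b}) := hfin b
    have h1 : U.restrictPreimage p = Prod.fst ∘ H := by
      funext x
      exact Subtype.ext (hH x).symm
    change IsClosedMap (U.restrictPreimage p)
    rw [h1]
    exact isClosedMap_fst_of_compactSpace.comp H.isClosedMap
  choose U hbU hU using h
  have hc : IsOpenCover U := by
    rw [IsOpenCover, eq_top_iff]
    intro b _
    exact Opens.mem_iSup.2 ⟨b, hbU b⟩
  exact hc.isClosedMap_iff_restrictPreimage.2 hU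

/-- A space with a covering map to a Hausdorff space is Hausdorff. -/
theorem t2Space_of_isCoveringMap {E B : Type*} [TopologicalSpace E] [TopologicalSpace B]
    [T2Space B] {p : E → B} (hp : IsCoveringMap p) : T2Space E := by
  refine ⟨fun x y hxy => ?_⟩
  by_cases h : p x = p y
  · exact hp.isSeparatedMap x y h hxy
  · obtain ⟨u, v, hu, hv, hx, hy, huv⟩ := t2_separation h
    exact ⟨p ⁻¹' u, p ⁻¹' v, hu.preimage hp.continuous, hv.preimage hp.continuous, hx, hy,
      huv.preimage p⟩

/-- Composition of coverings with finite fibres over a Hausdorff base. -/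
theorem isCoveringMap_comp {E F B : Type*} [TopologicalSpace E] [TopologicalSpace F]
    [TopologicalSpace B] [T2Space B] {p : E → F} {q : F → B} (hp : IsCoveringMap p)
    (hpf : ∀ b, (p ⁻¹' {b}).Finite) (hq : IsCoveringMap q) (hqf : ∀ b, (q ⁻¹' {b}).Finite) :
    IsCoveringMap (q ∘ p) ∧ ∀ b, ((q ∘ p) ⁻¹' {b}).Finite := by
  have hfin : ∀ b, ((q ∘ p) ⁻¹' {b}).Finite := by
    intro b
    rw [Set.preimage_comp]
    have h1 : p ⁻¹' (q ⁻¹' {b}) = ⋃ c ∈ q ⁻¹' {b}, p ⁻¹' {c} := by
      ext x
      simp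
    rw [h1]
    exact (hqf b).biUnion fun c _ => hpf c
  have hF : T2Space F := t2Space_of_isCoveringMap hq
  have hE : T2Space E := t2Space_of_isCoveringMap hp
  refine ⟨H879.Covering.isCoveringMap_of_isClosedMap
    ((isClosedMap_of_isCoveringMap hq hqf).comp (isClosedMap_of_isCoveringMap hp hpf)) hfin
    (hq.isLocalHomeomorph.comp hp.isLocalHomeomorph)
    fun b => ⟨Set.univ, isOpen_univ, trivial, inferInstance⟩, hfin⟩

/-- **Riemann's existence theorem over a finite étale `ℂ[X]_D`-scheme.** A covering with finite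
fibres of `V(ℂ)`, `V` finite étale over `B` satisfying Riemann's existence theorem, comes from a
scheme étale over `V`. -/
theorem exists_etale {B V : Scheme.{0}} [B.Over SC] [V.Over SC] [LocallyOfFiniteType (B ↘ SC)]
    [T2Space (Pts B)] (π : V ⟶ B) [π.IsOver SC] [IsFinite π] [Etale π]
    (hRET : ∀ {E : Type} [TopologicalSpace E] (p : E → Pts B), IsCoveringMap p →
      (∀ x, (p ⁻¹' {x}).Finite) → ∃ (Y : FEt.Cat B) (e : Pts Y.left ≃ₜ E), ∀ a : Pts Y.left,
        p (e a) = Pts.map (Y.left ↘ B) a)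
    {E : Type} [TopologicalSpace E] (p : E → Pts V) (hp : IsCoveringMap p)
    (hfin : ∀ x, (p ⁻¹' {x}).Finite) :
    ∃ (Y : Scheme.{0}) (_ : Y.Over SC) (k : Y ⟶ V) (_ : k.IsOver SC) (e : Pts Y ≃ₜ E), Etale k ∧
      IsFinite k ∧ ∀ a, p (e a) = Pts.map k a := by
  have hπ : IsLocalHomeomorph (Pts.map π) := H866.EtLH.isLocalHomeomorph_map π
  have hc := H879.Covering.isCoveringMap_map π hπ
  obtain ⟨h1, h2⟩ := isCoveringMap_comp hp hfin hc (H879.FiniteClosed.finite_fibre_of_isFinite π)
  obtain ⟨Y, e, he⟩ := hRET _ h1 h2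
  have hY1 : IsFinite (Y.left ↘ B) := Y.prop.1
  have hY2 : Etale (Y.left ↘ B) := Y.prop.2
  have : LocallyOfFiniteType (Y.left ↘ SC) := by
    change LocallyOfFiniteType ((Y.left ↘ B) ≫ (B ↘ SC))
    infer_instance
  obtain ⟨k, hk, hk2⟩ := H866.AlgCov.exists_hom (Y.left ↘ B) π (fun a => p (e a))
    (hp.continuous.comp e.continuous) he
  have hk3 : k.IsOver SC := ⟨by
    rw [← comp_over π SC, ← Category.assoc, hk, comp_over (Y.left ↘ B) SC]⟩
  refine ⟨Y.left, inferInstance, k, hk3, e, ?_, ?_, fun a => Subtype.ext (hk2 a).symm⟩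
  · have : Etale (k ≫ π) := hk ▸ hY2
    exact Etale.of_comp k π
  · have : IsFinite (k ≫ π) := hk ▸ hY1
    exact IsFinite.of_comp k π

/-- The object of the small étale site attached to a scheme étale over `V`. -/
def obj {X : Scheme.{0}} (V : X.Etale) {Y : Scheme.{0}} (k : Y ⟶ V.left) [Etale k] : X.Etale :=
  have : Etale V.hom := V.prop
  MorphismProperty.Over.mk ⊤ (k ≫ V.hom) inferInstance

/-- The morphism of the small étale site attached to a scheme étale over `V`. -/
def hom {X : Scheme.{0}} (V : X.Etale) {Y : Scheme.{0}} (k : Y ⟶ V.left) [Etale k] : obj V k ⟶ V :=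
  MorphismProperty.Over.homMk k rfl

theorem exists_kill_one_of (X : Scheme.{0}) [X.Over SC] [LocallyOfFiniteType (X ↘ SC)]
    [Fact EtaleLH] (V : X.Etale) {B : Scheme.{0}} [B.Over SC] [LocallyOfFiniteType (B ↘ SC)]
    [T2Space (Pts B)] (π : V.left ⟶ B) [π.IsOver SC] [IsFinite π] [Etale π]
    (hRET : ∀ {E : Type} [TopologicalSpace E] (p : E → Pts B), IsCoveringMap p →
      (∀ x, (p ⁻¹' {x}).Finite) → ∃ (Y : FEt.Cat B) (e : Pts Y.left ≃ₜ E), ∀ a : Pts Y.left,
        p (e a) = Pts.map (Y.left ↘ B) a)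
    (M : Type) [AddCommGroup M] [Finite M]
    (x : ClsH.HA ((eps X).obj V) (Cl.const (Pts X) M) 1) :
    ∃ (W : X.Etale) (g : W ⟶ V),
      Function.Surjective (Pts.map (X := W.left) (Y := V.left) g.left) ∧
      ClsH.res ((eps X).map g) x = 0 := by
  obtain ⟨A', g', hg', hgfin, hgsurj, hres⟩ := H877.Tors.exists_covering M x
  obtain ⟨Y, iY, k, hk, e, hk1, hk2, he⟩ := exists_etale π hRET g'.toFun hg' hgfin
  let W : X.Etale := obj V k
  let g : W ⟶ V := hom V k
  have hW' : (k ≫ V.hom) ≫ (X ↘ SC) = Y ↘ SC := by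
    rw [← comp_over k SC, Category.assoc]
    rfl
  let iW : Y.Over SC := etaleOverLeft X W
  have hW : @CategoryTheory.over _ _ Y SC iW = @CategoryTheory.over _ _ Y SC iY := hW'
  have hcomp : ∀ a : @Pts Y iW, g'.toFun (e (Pts.cast iW iY hW a)) =
      Pts.map (X := W.left) (Y := V.left) g.left a := by
    intro a
    exact (he _).trans (Subtype.ext rfl)
  let c : (eps X).obj W ⟶ A' :=
    ⟨fun a => e (Pts.cast iW iY hW a), e.continuous.comp (Pts.cast iW iY hW).continuous, fun a => by
      rw [← g'.over]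
      have := ((eps X).map g).over a
      rw [← this]
      exact congrArg _ (hcomp a)⟩
  have hc : c ≫ g' = (eps X).map g := Cl.hom_ext (funext hcomp)
  refine ⟨W, g, fun v => ?_, ?_⟩
  · obtain ⟨a', ha'⟩ := hgsurj v
    refine ⟨Pts.cast iY iW hW.symm (e.symm a'), ?_⟩
    rw [← hcomp]
    have : Pts.cast iW iY hW (Pts.cast iY iW hW.symm (e.symm a')) = e.symm a' := Subtype.ext rfl
    rw [this, e.apply_symm_apply, ha']
  · rw [← hc, ← ClsH.res_res, hres, ClsH.res_zero]

theorem exists_kill_one (X : Scheme.{0}) [X.Over SC] [LocallyOfFiniteType (X ↘ SC)]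
    [Fact EtaleLH] (V : X.Etale) (D : ℂ[X]) (hD : D ≠ 0)
    (π : V.left ⟶ Spec (CommRingCat.of (Localization.Away D))) [IsFinite π] [Etale π]
    (hπ : π ≫ Spec.map (CommRingCat.ofHom
      ((algebraMap ℂ[X] (Localization.Away D)).comp Polynomial.C)) = V.left ↘ SC)
    (M : Type) [AddCommGroup M] [Finite M]
    (x : ClsH.HA ((eps X).obj V) (Cl.const (Pts X) M) 1) :
    ∃ (W : X.Etale) (g : W ⟶ V),
      Function.Surjective (Pts.map (X := W.left) (Y := V.left) g.left) ∧
      ClsH.res ((eps X).map g) x = 0 := by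
  let _ : (Spec (CommRingCat.of (Localization.Away D))).Over SC :=
    ⟨Spec.map (CommRingCat.ofHom ((algebraMap ℂ[X] (Localization.Away D)).comp Polynomial.C))⟩
  have h1 : π.IsOver SC := ⟨hπ⟩
  have hl := LineSpec.isLine_spec (D := D) (Localization.Away D) rfl
  have h2 : LocallyOfFiniteType (Spec (CommRingCat.of (Localization.Away D)) ↘ SC) := hl.lft
  have h3 : T2Space (Pts (Spec (CommRingCat.of (Localization.Away D)))) :=
    T2Space.of_injective_continuous hl.injective_zc Line.continuous_zc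
  exact exists_kill_one_of X V π (fun p hp hfin => LineSpec.exists_fet_spec hD _ rfl p hp hfin) M x

end Groth.Agent.An.H14.KillOne
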