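import Groth.Agent.An.H14.AffPts
import Mathlib.RingTheory.Localization.Away.Basic
import Mathlib.Topology.Algebra.Polynomial

/-!
# Complex points of `Spec ℂ[X]_D`

`X` affine over `ℂ`, `α : ℂ[X] → Γ(X, ⊤)` a `ℂ`-algebra map which is a localization at `D`.
Then `x ↦ α(X)(x)` is a homeomorphism from `X(ℂ)` onto `{z | D(z) ≠ 0}`.
-/

set_option autoImplicit false
open CategoryTheory AlgebraicGeometry Topology TopologicalSpace Opposite Filter Polynomial
open Groth.Agent.An.H863.PtsBasic Groth.Agent.An.H863.PtsCont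
open Groth.Agent.An.H14.AffPts

noncomputable section

namespace Groth.Agent.An.H14.Line

variable {X : Scheme.{0}} [X.Over An.SC]

/-- `Γ(X, ⊤)` is the localization of `ℂ[X]` at `D`, as a `ℂ`-algebra. -/
structure IsLine (X : Scheme.{0}) [X.Over An.SC] (D : ℂ[X]) (α : ℂ[X] →+* Γ(X, ⊤)) : Prop where
  aff : IsAffine X
  lft : LocallyOfFiniteType (X ↘ An.SC)
  hC : ∀ c, α (C c) = An.strHom X c
  loc : letI := α.toAlgebra; IsLocalization.Away D Γ(X, ⊤)

/-- The coordinate. -/
def zc (α : ℂ[X] →+* Γ(X, ⊤)) (x : An.Pts X) : ℂ := x.evTop (α Polynomial.X)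

variable {D : ℂ[X]} {α : ℂ[X] →+* Γ(X, ⊤)}

theorem continuous_zc : Continuous (zc α) := continuous_evTop' _

namespace IsLine

variable (h : IsLine X D α)
include h

theorem ev_α (x : An.Pts X) (p : ℂ[X]) : x.evTop (α p) = p.eval (zc α x) := by
  have h1 : (evTopHom x).comp α = Polynomial.evalRingHom (zc α x) := by
    refine Polynomial.ringHom_ext (fun c => ?_) ?_
    · rw [RingHom.comp_apply, h.hC, evTopHom_strHom, coe_evalRingHom, eval_C]
    · rw [RingHom.comp_apply, coe_evalRingHom, eval_X]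
      rfl
  exact congrArg (fun f => f p) h1

theorem isUnit_D : IsUnit (α D) := by
  let _ := α.toAlgebra
  have := h.loc
  exact IsLocalization.Away.algebraMap_isUnit (S := Γ(X, ⊤)) D

theorem eval_ne_zero (x : An.Pts X) : D.eval (zc α x) ≠ 0 := by
  rw [← h.ev_α]
  exact ((h.isUnit_D).map (evTopHom x)).ne_zero

theorem surj (f : Γ(X, ⊤)) : ∃ (n : ℕ) (p : ℂ[X]), f * α D ^ n = α p := by
  let _ := α.toAlgebra
  have := h.loc
  obtain ⟨n, p, hp⟩ := IsLocalization.Away.surj (S := Γ(X, ⊤)) D f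
  exact ⟨n, p, hp⟩

theorem ext {x y : An.Pts X} (hxy : zc α x = zc α y) : x = y := by
  have := h.aff
  refine ext_of_evTop fun f => ?_
  obtain ⟨n, p, hp⟩ := h.surj f
  have h1 : ∀ w : An.Pts X, w.evTop f * D.eval (zc α w) ^ n = p.eval (zc α w) := by
    intro w
    rw [← h.ev_α, ← h.ev_α, ← hp]
    change _ = (evTopHom w) (f * α D ^ n)
    rw [map_mul, map_pow]
    rfl
  have h2 := h1 x
  have h3 := h1 y
  rw [hxy, ← h3] at h2
  exact mul_right_cancel₀ (pow_ne_zero n (h.eval_ne_zero y)) h2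

theorem injective_zc : Function.Injective (zc α) := fun _ _ hxy => h.ext hxy

theorem exists_pt (z : ℂ) (hz : D.eval z ≠ 0) : ∃ x : An.Pts X, zc α x = z := by
  have := h.aff
  have := h.lft
  let _ := α.toAlgebra
  have := h.loc
  have hu : IsUnit (Polynomial.evalRingHom z D) := by
    rw [coe_evalRingHom]
    exact IsUnit.mk0 _ hz
  let φ : Γ(X, ⊤) →+* ℂ := IsLocalization.Away.lift D hu
  have hφ : ∀ p, φ (α p) = p.eval z := fun p => IsLocalization.Away.lift_eq (S := Γ(X, ⊤)) D hu p
  obtain ⟨x, hx⟩ := exists_of_ringHom φ (by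
    intro c
    rw [← h.hC, hφ, eval_C])
  refine ⟨x, ?_⟩
  change evTopHom x (α Polynomial.X) = z
  rw [hx, hφ, eval_X]

theorem isInducing_zc : IsInducing (zc α) := by
  have := h.aff
  have hc : Continuous (zc α) := continuous_zc
  rw [isInducing_iff_nhds]
  intro x₀
  apply le_antisymm
  · exact hc.continuousAt.tendsto.le_comap
  · let τ : TopologicalSpace (An.Pts X) := TopologicalSpace.induced (zc α) inferInstance
    have hτ : @Continuous _ _ τ _ (zc α) := continuous_induced_dom
    have key : @ContinuousAt (An.Pts X) (An.Pts X) τ An.Pts.topologicalSpace (fun x => x) x₀ := by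
      refine @continuousAt_of_evTop X _ _ (An.Pts X) τ (fun x => x) x₀ (fun f => ?_)
      obtain ⟨n, p, hp⟩ := h.surj f
      have h1 : ∀ w : An.Pts X, w.evTop f = p.eval (zc α w) / D.eval (zc α w) ^ n := by
        intro w
        rw [eq_div_iff (pow_ne_zero n (h.eval_ne_zero w)), ← h.ev_α, ← h.ev_α, ← hp]
        change _ = (evTopHom w) (f * α D ^ n)
        rw [map_mul, map_pow]
        rfl
      have h2 : (fun w : An.Pts X => w.evTop f) =
          (fun z => p.eval z / D.eval z ^ n) ∘ (zc α) := by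
        funext w
        exact h1 w
      rw [h2]
      refine ContinuousAt.comp ?_ hτ.continuousAt
      exact (p.continuous.continuousAt).div ((D.continuous.continuousAt).pow n)
        (pow_ne_zero n (h.eval_ne_zero x₀))
    have h3 : @nhds _ τ x₀ = Filter.comap (zc α) (𝓝 (zc α x₀)) := nhds_induced _ _
    rw [← h3]
    have h4 : Filter.map (fun x : An.Pts X => x) (@nhds _ τ x₀) ≤
        @nhds _ An.Pts.topologicalSpace x₀ := key
    rwa [Filter.map_id'] at h4

omit [X.Over An.SC] h in
theorem isOpen_range : IsOpen {z : ℂ | D.eval z ≠ 0} :=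
  isOpen_ne_fun D.continuous continuous_const

theorem range_zc : Set.range (zc α) = {z | D.eval z ≠ 0} := by
  ext z
  constructor
  · rintro ⟨x, rfl⟩
    exact h.eval_ne_zero x
  · intro hz
    obtain ⟨x, hx⟩ := h.exists_pt z hz
    exact ⟨x, hx⟩

theorem isOpenEmbedding_zc : IsOpenEmbedding (zc α) where
  toIsEmbedding := ⟨h.isInducing_zc, h.injective_zc⟩
  isOpen_range := by
    rw [h.range_zc]
    exact isOpen_range

/-- The homeomorphism `X(ℂ) ≃ {z | D(z) ≠ 0}`. -/
def homeo : An.Pts X ≃ₜ {z : ℂ // D.eval z ≠ 0} :=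
  (h.isOpenEmbedding_zc.toIsEmbedding.toHomeomorph).trans (Homeomorph.setCongr h.range_zc)

theorem homeo_apply (x : An.Pts X) : (h.homeo x : ℂ) = zc α x := rfl

end IsLine

end Groth.Agent.An.H14.Line
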