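import Groth.Agent.An.H14.Re1Main

/-!
# Riemann's existence theorem for `Spec ℂ[X]_D`: versions with an explicit coordinate ring
-/

set_option autoImplicit false
open CategoryTheory AlgebraicGeometry Topology TopologicalSpace Opposite Filter Polynomial
open Groth.Agent.An.H14.AffPts Groth.Agent.An.H14.Line

noncomputable section

namespace Groth.Agent.An.H14.LineSpec

variable {D : ℂ[X]}

/-- An affine scheme over `ℂ` whose coordinate ring is a localization of `ℂ[X]` at `D`. -/
theorem isLine_of_ringEquiv {X : Scheme.{0}} [X.Over An.SC] [IsAffine X]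
    (A : Type) [CommRing A] [Algebra ℂ[X] A] [IsLocalization.Away D A]
    (e : A ≃+* Γ(X, ⊤)) (he : ∀ c, e (algebraMap ℂ[X] A (C c)) = An.strHom X c) :
    IsLine X D ((e : A →+* Γ(X, ⊤)).comp (algebraMap ℂ[X] A)) := by
  refine ⟨inferInstance, ?_, he, ?_⟩
  · have h1 : ((algebraMap ℂ[X] A).comp C).FiniteType := by
      refine RingHom.FiniteType.comp (f := (C : ℂ →+* ℂ[X])) ?_ ?_
      · exact RingHom.finiteType_algebraMap.2
          (IsLocalization.finiteType_of_monoid_fg (Submonoid.powers D) A)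
      · exact RingHom.finiteType_algebraMap.2 (inferInstanceAs (Algebra.FiniteType ℂ ℂ[X]))
    have h2 : ((e : A →+* Γ(X, ⊤)).comp ((algebraMap ℂ[X] A).comp C)).FiniteType :=
      RingHom.FiniteType.comp (RingHom.FiniteType.of_surjective _ e.surjective) h1
    have h3 : (e : A →+* Γ(X, ⊤)).comp ((algebraMap ℂ[X] A).comp C) = An.strHom X := by
      ext c
      exact he c
    rw [h3] at h2
    rw [HasRingHomProperty.iff_of_isAffine (P := @LocallyOfFiniteType)]
    refine RingHom.FiniteType.of_comp_finiteType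
      (f := (Scheme.ΓSpecIso (CommRingCat.of ℂ)).inv.hom) ?_
    exact h2
  · let _ : Algebra ℂ[X] Γ(X, ⊤) := ((e : A →+* Γ(X, ⊤)).comp (algebraMap ℂ[X] A)).toAlgebra
    let e' : A ≃ₐ[ℂ[X]] Γ(X, ⊤) := AlgEquiv.ofRingEquiv (f := e) fun _ => rfl
    exact IsLocalization.isLocalization_of_algEquiv (Submonoid.powers D) e'

/-- `Spec` of a localization of `ℂ[X]` at `D`, as a scheme over `ℂ`. -/
theorem isLine_spec (A : Type) [CommRing A] [Algebra ℂ[X] A] [IsLocalization.Away D A]
    [(Spec (CommRingCat.of A)).Over An.SC]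
    (hA : (Spec (CommRingCat.of A) ↘ An.SC) =
      Spec.map (CommRingCat.ofHom ((algebraMap ℂ[X] A).comp C))) :
    IsLine (Spec (CommRingCat.of A)) D
      (((Scheme.ΓSpecIso (CommRingCat.of A)).commRingCatIsoToRingEquiv.symm :
        A →+* Γ(Spec (CommRingCat.of A), ⊤)).comp (algebraMap ℂ[X] A)) := by
  refine isLine_of_ringEquiv A (Scheme.ΓSpecIso (CommRingCat.of A)).commRingCatIsoToRingEquiv.symm
    fun c => ?_
  change (Scheme.ΓSpecIso (CommRingCat.of A)).inv ((algebraMap ℂ[X] A).comp C c) =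
    (Spec (CommRingCat.of A) ↘ An.SC).appTop ((Scheme.ΓSpecIso (CommRingCat.of ℂ)).inv c)
  rw [hA]
  have h2 := Scheme.ΓSpecIso_inv_naturality (CommRingCat.ofHom ((algebraMap ℂ[X] A).comp C))
  exact congrArg (fun g => g c) (congrArg (fun g => g.hom) h2)

/-- The coordinate on `Spec A`: the value at `x` of the image of `X`. -/
theorem zc_spec (A : Type) [CommRing A] [Algebra ℂ[X] A]
    [(Spec (CommRingCat.of A)).Over An.SC] (x : An.Pts (Spec (CommRingCat.of A))) :
    zc (((Scheme.ΓSpecIso (CommRingCat.of A)).commRingCatIsoToRingEquiv.symm :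
        A →+* Γ(Spec (CommRingCat.of A), ⊤)).comp (algebraMap ℂ[X] A)) x =
      x.evTop ((Scheme.ΓSpecIso (CommRingCat.of A)).inv (algebraMap ℂ[X] A Polynomial.X)) := rfl

/-- **Riemann's existence theorem** for `Spec A`, `A` a localization of `ℂ[X]` at `D ≠ 0`. -/
theorem exists_fet_spec (hD : D ≠ 0) (A : Type) [CommRing A] [Algebra ℂ[X] A]
    [IsLocalization.Away D A] [(Spec (CommRingCat.of A)).Over An.SC]
    (hA : (Spec (CommRingCat.of A) ↘ An.SC) =
      Spec.map (CommRingCat.ofHom ((algebraMap ℂ[X] A).comp C)))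
    {E : Type} [TopologicalSpace E] (p : E → An.Pts (Spec (CommRingCat.of A)))
    (hp : IsCoveringMap p)
    (hfin : ∀ x : An.Pts (Spec (CommRingCat.of A)), (p ⁻¹' {x}).Finite) :
    ∃ (Y : FEt.Cat (Spec (CommRingCat.of A))) (e : An.Pts Y.left ≃ₜ E), ∀ a : An.Pts Y.left,
      p (e a) = An.Pts.map (Y.left ↘ Spec (CommRingCat.of A)) a :=
  Re1Main.exists_fet (isLine_spec A hA) hD p hp hfin

/-- **Riemann's existence theorem** for affine `X` over `ℂ` with coordinate ring a localization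
of `ℂ[X]` at `D ≠ 0`. -/
theorem exists_fet_of_ringEquiv {X : Scheme.{0}} [X.Over An.SC] [IsAffine X] (hD : D ≠ 0)
    (A : Type) [CommRing A] [Algebra ℂ[X] A] [IsLocalization.Away D A]
    (e : A ≃+* Γ(X, ⊤)) (he : ∀ c, e (algebraMap ℂ[X] A (C c)) = An.strHom X c)
    {E : Type} [TopologicalSpace E] (p : E → An.Pts X) (hp : IsCoveringMap p)
    (hfin : ∀ x : An.Pts X, (p ⁻¹' {x}).Finite) :
    ∃ (Y : FEt.Cat X) (e : An.Pts Y.left ≃ₜ E), ∀ a : An.Pts Y.left,
      p (e a) = An.Pts.map (Y.left ↘ X) a :=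
  Re1Main.exists_fet (isLine_of_ringEquiv A e he) hD p hp hfin

end Groth.Agent.An.H14.LineSpec
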