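import Groth.Agent.An.H14.Re1Sch

/-!
# Riemann's existence theorem for `Spec ℂ[X]_D`: main statement
-/

set_option autoImplicit false
open CategoryTheory AlgebraicGeometry Topology TopologicalSpace Opposite Filter Polynomial
open Groth.Agent.An.H863.PtsBasic Groth.Agent.An.H863.PtsCont
open Groth.Agent.An.H14.AffPts Groth.Agent.An.H14.Line Groth.Agent.An.H579.RetCov
open Groth.Agent.An.H14.Re1Sch

noncomputable section

namespace Groth.Agent.An.H14.Re1Main

section scheme

variable (X : Scheme.{0}) [X.Over An.SC] [IsAffine X] [LocallyOfFiniteType (X ↘ An.SC)]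
variable (B : Type) [CommRing B] [Algebra Γ(X, ⊤) B]
  [Module.Finite Γ(X, ⊤) B] [Algebra.Etale Γ(X, ⊤) B]

/-- The functions on `Spec B`. -/
def gB : B →+* Γ((objB X B).left, ⊤) := (Scheme.ΓSpecIso (CommRingCat.of B)).inv.hom

omit [X.Over An.SC] [LocallyOfFiniteType (X ↘ An.SC)] in
theorem gB_bijective : Function.Bijective (gB X B) :=
  ConcreteCategory.bijective_of_isIso (Scheme.ΓSpecIso (CommRingCat.of B)).inv

omit [X.Over An.SC] [LocallyOfFiniteType (X ↘ An.SC)] in
theorem isoSpec_inv_appTop : X.isoSpec.inv.appTop = (Scheme.ΓSpecIso Γ(X, ⊤)).inv := by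
  have h1 : X.isoSpec.inv ≫ X.toSpecΓ = 𝟙 _ := X.isoSpec_inv_toSpecΓ
  have h2 := congrArg Scheme.Hom.appTop h1
  rw [Scheme.Hom.comp_appTop, Scheme.toSpecΓ_appTop] at h2
  exact ((Iso.eq_inv_comp _).2 h2).trans (Category.comp_id _)

omit [X.Over An.SC] [LocallyOfFiniteType (X ↘ An.SC)] in
theorem appTop_str (f : Γ(X, ⊤)) :
    ((objB X B).left ↘ X).appTop f = gB X B (algebraMap Γ(X, ⊤) B f) := by
  have h1 : ((objB X B).left ↘ X) = Spec.map (CommRingCat.ofHom (algebraMap Γ(X, ⊤) B)) ≫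
      X.isoSpec.inv := rfl
  rw [h1, Scheme.Hom.comp_appTop, isoSpec_inv_appTop]
  change (Spec.map (CommRingCat.ofHom (algebraMap Γ(X, ⊤) B))).appTop
    ((Scheme.ΓSpecIso Γ(X, ⊤)).inv f) = _
  have h2 := Scheme.ΓSpecIso_inv_naturality (CommRingCat.ofHom (algebraMap Γ(X, ⊤) B))
  have h3 := congrArg (fun g => g f) (congrArg (fun g => g.hom) h2)
  exact h3.symm

omit [LocallyOfFiniteType (X ↘ An.SC)] in
theorem appTop_str_strHom (c : ℂ) :
    ((objB X B).left ↘ X).appTop (An.strHom X c) = An.strHom (objB X B).left c := by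
  change _ = ((objB X B).left ↘ An.SC).appTop ((Scheme.ΓSpecIso (CommRingCat.of ℂ)).inv c)
  have h1 : ((objB X B).left ↘ An.SC) = ((objB X B).left ↘ X) ≫ (X ↘ An.SC) := rfl
  rw [h1, Scheme.Hom.comp_appTop]
  rfl

instance : IsAffine (objB X B).left := inferInstanceAs (IsAffine (Spec (CommRingCat.of B)))

instance : LocallyOfFiniteType ((objB X B).left ↘ An.SC) := by
  have h1 : ((objB X B).left ↘ An.SC) = ((objB X B).left ↘ X) ≫ (X ↘ An.SC) := rfl
  rw [h1]
  have h2 : Etale ((objB X B).left ↘ X) := (objB X B).prop.2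
  infer_instance

end scheme

/-- **Riemann's existence theorem** for `X = Spec ℂ[X]_D`. -/
theorem exists_fet {X : Scheme.{0}} [X.Over An.SC] {D : ℂ[X]} {α : ℂ[X] →+* Γ(X, ⊤)}
    (h : IsLine X D α) (hD : D ≠ 0) {E : Type} [TopologicalSpace E] (p : E → An.Pts X)
    (hp : IsCoveringMap p) (hfin : ∀ x : An.Pts X, (p ⁻¹' {x}).Finite) :
    ∃ (Y : FEt.Cat X) (e : An.Pts Y.left ≃ₜ E), ∀ a : An.Pts Y.left,
      p (e a) = An.Pts.map (Y.left ↘ X) a := by
  classical
  have := h.aff
  have := h.lft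
  let _ := α.toAlgebra
  have hαa : ∀ q, algebraMap ℂ[X] Γ(X, ⊤) q = α q := fun _ => rfl
  have hloc : IsLocalization.Away (PS D.roots.toFinset) Γ(X, ⊤) := by
    refine (isLocalization_iff D _ _ (dvd_PS_pow D hD) ⟨1, ?_⟩).1 h.loc
    rw [pow_one]
    exact PS_dvd D hD
  have hF := finCov h hD p hp hfin
  obtain ⟨B, _, _, e, hBf, hBe, hev, hex, hind⟩ := RE1 hF Γ(X, ⊤)
  let Y : FEt.Cat X := objB X B
  -- the value of `b` at a point of `Y`
  let φ : An.Pts Y.left → B →+* ℂ := fun a => (evTopHom a).comp (gB X B)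
  have hφ : ∀ a b, φ a b = a.evTop (gB X B b) := fun _ _ => rfl
  have hφA : ∀ a f, φ a (algebraMap Γ(X, ⊤) B f) = (An.Pts.map (Y.left ↘ X) a).evTop f := by
    intro a f
    rw [hφ, evTop_map, appTop_str]
  have hφC : ∀ a c, φ a (algebraMap Γ(X, ⊤) B (algebraMap ℂ[X] Γ(X, ⊤) (C c))) = c := by
    intro a c
    rw [hφA, hαa, h.hC]
    exact evTop_strHom _ c
  choose f hf hfu using fun a => hex (φ a) (hφC a)
  have hfb : ∀ a b, e (f a) b = a.evTop (gB X B b) := by
    intro a b
    have h1 : e (f a) = φ a := hf a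
    rw [h1, hφ]
  have hpz : ∀ y q, e y (algebraMap Γ(X, ⊤) B (α q)) = q.eval (zc α (p y)) := by
    intro y q
    have h1 := congrArg (fun g => g (algebraMap ℂ[X] Γ(X, ⊤) q)) (hev y)
    change e y (algebraMap Γ(X, ⊤) B (α q)) = _ at h1
    rw [h1]
    exact ev_algebraMap _ _ _ _ _
  have hinj : Function.Injective f := by
    intro a b hab
    refine ext_of_evTop fun g => ?_
    obtain ⟨g', rfl⟩ := (gB_bijective X B).2 g
    rw [← hfb, ← hfb, hab]
  have hsurj : Function.Surjective f := by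
    intro y
    let gE : B ≃+* Γ(Y.left, ⊤) := RingEquiv.ofBijective (gB X B) (gB_bijective X B)
    let ψ : Γ(Y.left, ⊤) →+* ℂ := (e y).comp gE.symm.toRingHom
    have hψ : ∀ b, ψ (gB X B b) = e y b := by
      intro b
      change e y (gE.symm (gE b)) = e y b
      rw [RingEquiv.symm_apply_apply]
    obtain ⟨a, ha⟩ := exists_of_ringHom (X := Y.left) ψ (by
      intro c
      have h1 : An.strHom Y.left c = gB X B (algebraMap Γ(X, ⊤) B (An.strHom X c)) := by
        rw [← appTop_str, appTop_str_strHom]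
      rw [h1, hψ, ← h.hC, hpz, eval_C])
    refine ⟨a, ?_⟩
    have h2 : e y = φ a := by
      ext b
      rw [hφ, ← hψ b, ← ha]
      rfl
    exact (hfu a y h2).symm
  let F : An.Pts Y.left ≃ E := Equiv.ofBijective f ⟨hinj, hsurj⟩
  have hFf : ∀ a, F a = f a := fun _ => rfl
  have hc1 : Continuous F := by
    rw [hind.continuous_iff]
    refine continuous_pi fun b => ?_
    have h1 : (fun a => e (F a) b) = fun a : An.Pts Y.left => a.evTop (gB X B b) := by
      funext a
      exact hfb a b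
    change Continuous (fun a => e (F a) b)
    rw [h1]
    exact continuous_evTop' _
  have hc2 : Continuous F.symm := by
    refine continuous_of_evTop _ fun g => ?_
    obtain ⟨b, rfl⟩ := (gB_bijective X B).2 g
    have h1 : (fun y => (F.symm y).evTop (gB X B b)) = fun y => e y b := by
      funext y
      rw [← hfb, ← hFf, Equiv.apply_symm_apply]
    rw [h1]
    exact (continuous_apply b).comp hind.continuous
  refine ⟨Y, ⟨F, hc1, hc2⟩, fun a => ?_⟩
  refine h.ext ?_
  change zc α (p (f a)) = (An.Pts.map (Y.left ↘ X) a).evTop (α Polynomial.X)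
  rw [← hφA]
  have h2 := hpz (f a) Polynomial.X
  rw [eval_X] at h2
  rw [← h2]
  have h1 : e (f a) = φ a := hf a
  rw [h1]

end Groth.Agent.An.H14.Re1Main
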