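import Groth.Agent.An.H14.Line
import Groth.Agent.An.H579.RE1
import Groth.Prelude.Def_FEt

/-!
# Riemann's existence theorem for `Spec ℂ[X]_D`

Scheme form of `Groth.Agent.An.H579.RE1`: for `X` affine over `ℂ` with `Γ(X, ⊤)` a localization of
`ℂ[X]` at `D ≠ 0`, every finite covering of `X(ℂ)` is the space of complex points of a finite étale
`X`-scheme.
-/

set_option autoImplicit false
open CategoryTheory AlgebraicGeometry Topology TopologicalSpace Opposite Filter Polynomial
open Groth.Agent.An.H863.PtsBasic Groth.Agent.An.H863.PtsCont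
open Groth.Agent.An.H14.AffPts Groth.Agent.An.H14.Line Groth.Agent.An.H579.RetCov

noncomputable section

namespace Groth.Agent.An.H14.Re1Sch

/-! ## Algebra: `D` and the product over its distinct roots -/

theorem PS_dvd (D : ℂ[X]) (hD : D ≠ 0) : PS D.roots.toFinset ∣ D := by
  classical
  have h1 : (PS D.roots.toFinset) = (D.roots.toFinset.val.map fun a => X - C a).prod := rfl
  rw [h1, Multiset.prod_X_sub_C_dvd_iff_le_roots hD, Multiset.toFinset_val]
  exact Multiset.dedup_le _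

theorem dvd_PS_pow (D : ℂ[X]) (hD : D ≠ 0) : ∃ n : ℕ, D ∣ PS D.roots.toFinset ^ n := by
  classical
  refine ⟨Multiset.card D.roots, ?_⟩
  have h1 := (IsAlgClosed.splits D).eq_prod_roots
  have h2 : (D.roots.map fun a => X - C a).prod ∣ PS D.roots.toFinset ^ Multiset.card D.roots := by
    rw [← Multiset.prod_replicate]
    rw [← Multiset.map_const']
    refine Multiset.prod_dvd_prod_of_dvd _ _ fun a ha => ?_
    exact Finset.dvd_prod_of_mem (fun s => X - C s) (Multiset.mem_toFinset.2 ha)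
  rw [h1]
  have h3 : IsUnit (C D.leadingCoeff : ℂ[X]) :=
    Polynomial.isUnit_C.2 (isUnit_iff_ne_zero.2 (leadingCoeff_ne_zero.2 hD))
  exact h3.mul_left_dvd.2 (by rw [← h1]; exact h2)

/-- The saturation of the powers of `D`. -/
def sat (D : ℂ[X]) : Submonoid ℂ[X] where
  carrier := {p | ∃ n : ℕ, p ∣ D ^ n}
  one_mem' := ⟨0, by simp⟩
  mul_mem' := by
    rintro a b ⟨n, hn⟩ ⟨m, hm⟩
    exact ⟨n + m, by rw [pow_add]; exact mul_dvd_mul hn hm⟩

theorem mem_sat {D p : ℂ[X]} : p ∈ sat D ↔ ∃ n : ℕ, p ∣ D ^ n := Iff.rfl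

theorem isLocalization_iff (D P : ℂ[X]) (A : Type) [CommRing A] [Algebra ℂ[X] A]
    (h1 : ∃ n : ℕ, D ∣ P ^ n) (h2 : ∃ n : ℕ, P ∣ D ^ n) :
    IsLocalization.Away D A ↔ IsLocalization.Away P A := by
  have e1 : IsLocalization.Away D A ↔ IsLocalization (sat D) A := by
    refine IsLocalization.iff_of_le_of_exists_dvd (M := Submonoid.powers D) (sat D) ?_ ?_
    · rintro _ ⟨n, rfl⟩
      exact ⟨n, dvd_rfl⟩
    · rintro p ⟨n, hn⟩
      exact ⟨D ^ n, ⟨n, rfl⟩, hn⟩
  have e2 : IsLocalization.Away P A ↔ IsLocalization (sat P) A := by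
    refine IsLocalization.iff_of_le_of_exists_dvd (M := Submonoid.powers P) (sat P) ?_ ?_
    · rintro _ ⟨n, rfl⟩
      exact ⟨n, dvd_rfl⟩
    · rintro p ⟨n, hn⟩
      exact ⟨P ^ n, ⟨n, rfl⟩, hn⟩
  have e3 : sat D = sat P := by
    obtain ⟨n, hn⟩ := h1
    obtain ⟨m, hm⟩ := h2
    ext p
    constructor
    · rintro ⟨k, hk⟩
      refine ⟨n * k, hk.trans ?_⟩
      rw [pow_mul]
      exact pow_dvd_pow_of_dvd hn k
    · rintro ⟨k, hk⟩
      refine ⟨m * k, hk.trans ?_⟩
      rw [pow_mul]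
      exact pow_dvd_pow_of_dvd hm k
  rw [e1, e2, e3]

/-! ## The covering of `ℂ ∖ S` -/

variable {X : Scheme.{0}} [X.Over An.SC] {D : ℂ[X]} {α : ℂ[X] →+* Γ(X, ⊤)}

theorem mem_roots_toFinset (hD : D ≠ 0) (z : ℂ) : z ∈ D.roots.toFinset ↔ D.eval z = 0 := by
  rw [Multiset.mem_toFinset, mem_roots hD, IsRoot.def]

variable {E : Type} [TopologicalSpace E]

theorem finCov (h : IsLine X D α) (hD : D ≠ 0) (p : E → An.Pts X) (hp : IsCoveringMap p)
    (hfin : ∀ x : An.Pts X, (p ⁻¹' {x}).Finite) :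
    FinCov ((D.roots.toFinset : Finset ℂ) : Set ℂ) (zc α ∘ p) := by
  have hS : ((D.roots.toFinset : Finset ℂ) : Set ℂ)ᶜ = {z | D.eval z ≠ 0} := by
    ext z
    rw [Set.mem_compl_iff, Finset.mem_coe, mem_roots_toFinset hD]
    rfl
  refine ⟨D.roots.toFinset.finite_toSet.isClosed, ?_, ?_, ?_⟩
  · rw [hS]
    refine IsCoveringMapOn.of_isCoveringMap_subtype (f := zc α ∘ p) IsLine.isOpen_range
      (fun y => h.eval_ne_zero (p y)) ?_
    exact hp.homeomorph_comp h.homeo
  · intro y hy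
    rw [Finset.mem_coe, mem_roots_toFinset hD] at hy
    exact h.eval_ne_zero (p y) hy
  · intro z
    by_cases hz : ∃ x : An.Pts X, zc α x = z
    · obtain ⟨x, rfl⟩ := hz
      refine (hfin x).subset ?_
      intro y hy
      exact h.ext hy
    · have : (zc α ∘ p) ⁻¹' {z} = ∅ := by
        ext y
        simp only [Set.mem_preimage, Function.comp_apply, Set.mem_singleton_iff,
          Set.mem_empty_iff_false, iff_false]
        intro hy
        exact hz ⟨_, hy⟩
      rw [this]
      exact Set.finite_empty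

/-! ## The finite étale scheme attached to a finite étale algebra -/

section scheme

variable (X) [IsAffine X] (B : Type) [CommRing B] [Algebra Γ(X, ⊤) B]

/-- `Spec B → X`. -/
def strB : Spec (CommRingCat.of B) ⟶ X :=
  Spec.map (CommRingCat.ofHom (algebraMap Γ(X, ⊤) B)) ≫ X.isoSpec.inv

omit [X.Over An.SC] in
theorem strB_prop [Module.Finite Γ(X, ⊤) B] [Algebra.Etale Γ(X, ⊤) B] : FEt.prop (strB X B) := by
  have h1 : FEt.prop (Spec.map (CommRingCat.ofHom (algebraMap Γ(X, ⊤) B))) := by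
    refine ⟨?_, ?_⟩
    · rw [IsFinite.SpecMap_iff]
      exact RingHom.finite_algebraMap.2 inferInstance
    · rw [HasRingHomProperty.Spec_iff (P := @Etale)]
      exact RingHom.etale_algebraMap.2 inferInstance
  have h2 : FEt.prop X.isoSpec.inv := ⟨inferInstanceAs (IsFinite _), inferInstanceAs (Etale _)⟩
  exact MorphismProperty.comp_mem _ _ _ h1 h2

/-- The object of `FEt.Cat X` attached to a finite étale algebra. -/
def objB [Module.Finite Γ(X, ⊤) B] [Algebra.Etale Γ(X, ⊤) B] : FEt.Cat X :=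
  MorphismProperty.Over.mk ⊤ (strB X B) (strB_prop X B)

end scheme

end Groth.Agent.An.H14.Re1Sch
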